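import Groth.Agent.Lib.FEt21.Galois
import Mathlib.CategoryTheory.Galois.Decomposition
import Mathlib.CategoryTheory.Galois.GaloisObjects
import Mathlib.GroupTheory.Sylow

/-!
# A cover of degree prime to `ℓ` over which a given cover is dominated by an `ℓ`-group cover
-/

set_option autoImplicit false
set_option backward.isDefEq.respectTransparency false
set_option linter.style.haveILetI false
set_option linter.all false

universe u

open CategoryTheory CategoryTheory.Limits AlgebraicGeometry Opposite PreGaloisCategory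
open GrothLib.FEt21

noncomputable section

namespace GrothLib.PFilt18

variable {S : Scheme.{u}}

theorem preconnected_left_of_isConnected (A : FEt.Cat S) [PreGaloisCategory.IsConnected A] :
    PreconnectedSpace A.left := by
  rw [preconnectedSpace_iff_clopen]
  intro D hD
  rcases D.eq_empty_or_nonempty with h | ⟨z, hz⟩
  · exact .inl h
  refine .inr (Set.eq_univ_of_forall fun w => ?_)
  let W : A.left.Opens := ⟨D, hD.isOpen⟩
  let Z : FEt.Cat S := mkOf A W.ι (prop_ι W hD.isClosed)
  let i : Z ⟶ A := MorphismProperty.Over.homMk W.ι rfl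
  haveI : Mono i := ⟨fun a b h => MorphismProperty.Over.Hom.ext
    ((cancel_mono W.ι).1 (congrArg (fun k => k.left) h))⟩
  haveI : IsIso i := PreGaloisCategory.IsConnected.noTrivialComponent Z i fun hZ =>
    isEmptyElim (α := (∅ : Scheme.{u}))
      ((hZ.to (emptyCover S)).left.base (⟨z, hz⟩ : W.toScheme))
  have h : (inv i).left ≫ W.ι = 𝟙 A.left := congrArg (fun k => k.left) (IsIso.inv_hom_id i)
  have h' : W.ι.base ((inv i).left.base w) = w :=
    (Scheme.Hom.comp_apply _ _ w).symm.trans (congr($(h).base w))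
  rw [← h']
  exact ((inv i).left.base w).2

/-- `hℓ`-part of the fundamental group: the quotient of a Galois cover by a Sylow subgroup. -/
theorem exists_sylow_cover [PreconnectedSpace S] [Nonempty S] (ℓ : ℕ) [Fact ℓ.Prime]
    (W : FEt.Cat S) [Nonempty W.left] :
    ∃ (A Q : FEt.Cat S) (_ : A ⟶ W) (p : A ⟶ Q) (Γ : Type u) (_ : Group Γ) (_ : Finite Γ)
      (φ : Γ →* Aut A) (d : ℕ), IsPGroup ℓ Γ ∧ (∀ g, (φ g).hom ≫ p = p) ∧
      PreconnectedSpace A.left ∧ Nonempty A.left ∧ Function.Surjective p.left.base ∧ ℓ.Coprime d ∧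
      ∀ (Ω : Type u) [Field Ω] [IsAlgClosed Ω] (η : Spec (CommRingCat.of Ω) ⟶ S),
        Nat.card (FEt.fiberObj η Q) = d ∧
        ∀ (t₁ t₂ : FEt.fiberObj η A), t₁.1 ≫ p.left = t₂.1 ≫ p.left → ∃ g, t₂.1 = t₁.1 ≫ (φ g).hom.left := by
  classical
  obtain ⟨s₀⟩ := ‹Nonempty S›
  obtain ⟨w₀⟩ := ‹Nonempty W.left›
  haveI := preGalois (X := S)
  haveI hF₀ := fiberFunctor (geomPt S s₀)
  haveI : GaloisCategory (FEt.Cat S) := { hasFiberFunctor := ⟨fibFin (geomPt S s₀), ⟨hF₀⟩⟩ }
  obtain ⟨A, g, hA⟩ := exists_hom_from_galois_of_fiber_nonempty (fibFin (geomPt S s₀)) W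
    (nonempty_fiber (geomPt S s₀) W w₀)
  haveI := hA
  haveI : Finite (Aut A) := inferInstance
  obtain ⟨P⟩ : Nonempty (Sylow ℓ (Aut A)) := inferInstance
  let J : SingleObj P ⥤ FEt.Cat S := SingleObj.functor ((Aut.toEnd A).comp P.toSubgroup.subtype)
  haveI := hasColimitsOfShape_singleObj (X := S) P
  let Q : FEt.Cat S := colimit J
  let p : A ⟶ Q := colimit.ι J (SingleObj.star P)
  have hgp : ∀ h : P, (h : Aut A).hom ≫ p = p := fun h =>
    colimit.w J (show SingleObj.star P ⟶ SingleObj.star P from h)
  obtain ⟨a₀⟩ : Nonempty (FEt.fiberObj (geomPt S s₀) A) :=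
    inferInstanceAs (Nonempty ((fibFin (geomPt S s₀)).obj A))
  have key : ∀ (Ω : Type u) [Field Ω] [IsAlgClosed Ω] (η : Spec (CommRingCat.of Ω) ⟶ S),
      Function.Surjective ((FEt.fiber η).map p) ∧
      (∀ s t : FEt.fiberObj η A, (FEt.fiber η).map p s = (FEt.fiber η).map p t →
        ∃ h : P, (FEt.fiber η).map (h : Aut A).hom s = t) ∧
      Nat.card (FEt.fiberObj η Q) = P.index := by
    intro Ω _ _ η
    haveI := fiberFunctor η
    haveI : PreservesColimit J (FEt.fiber η) := by
      obtain ⟨G', hg, hf, ⟨e⟩⟩ := Finite.exists_type_univ_nonempty_mulEquiv.{u, 0} P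
      haveI := fiber_preservesFiniteColimits η
      haveI : PreservesColimitsOfShape (SingleObj P) (FEt.fiber η) :=
        preservesColimitsOfShape_of_equiv e.toSingleObjEquiv.symm _
      infer_instance
    let hc := isColimitOfPreserves (FEt.fiber η) (colimit.isColimit J)
    have hsurj : Function.Surjective ((FEt.fiber η).map p) := fun q => by
      obtain ⟨j, s, hs⟩ := Types.jointly_surjective _ hc q
      exact ⟨s, hs⟩
    have hexact : ∀ s t : FEt.fiberObj η A, (FEt.fiber η).map p s = (FEt.fiber η).map p t →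
        ∃ h : P, (FEt.fiber η).map (h : Aut A).hom s = t := by
      intro s t hst
      let orb : FEt.fiberObj η A → Set (FEt.fiberObj η A) :=
        fun x => Set.range fun h : P => (FEt.fiber η).map (h : Aut A).hom x
      have hmul : ∀ (h h' : P) (x : FEt.fiberObj η A), (FEt.fiber η).map (h : Aut A).hom
          ((FEt.fiber η).map (h' : Aut A).hom x) = (FEt.fiber η).map (((h * h' : P) : Aut A)).hom x :=
        fun h h' x => (congr($((FEt.fiber η).map_comp (h' : Aut A).hom (h : Aut A).hom) x)).symm
      let c : Cocone (J ⋙ FEt.fiber η) :=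
        { pt := Set (FEt.fiberObj η A)
          ι :=
            { app := fun _ => TypeCat.ofHom orb
              naturality := fun _ _ (h : P) => by
                refine ConcreteCategory.hom_ext _ _ fun (x : FEt.fiberObj η A) => ?_
                change orb ((FEt.fiber η).map (h : Aut A).hom x) = orb x
                ext y
                constructor
                · rintro ⟨k, rfl⟩
                  exact ⟨k * h, (hmul k h x).symm⟩
                · rintro ⟨k, rfl⟩
                  refine ⟨k * h⁻¹, (hmul (k * h⁻¹) h x).trans ?_⟩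
                  rw [inv_mul_cancel_right] } }
      have hd : ∀ x : FEt.fiberObj η A, hc.desc c ((FEt.fiber η).map p x) = orb x := fun x =>
        congr($(hc.fac c (SingleObj.star P)) x)
      have h1 : orb s = orb t := ((hd s).symm.trans (congrArg (hc.desc c) hst)).trans (hd t)
      have h2 : t ∈ orb s := h1.symm ▸ ⟨1, congr($((FEt.fiber η).map_id A) t)⟩
      exact h2
    refine ⟨hsurj, hexact, ?_⟩
    have hfree : ∀ a : FEt.fiberObj η A,
        Function.Injective fun h : Aut A => (FEt.fiber η).map h.hom a := fun a =>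
      evaluation_aut_injective_of_isConnected (fibFin η) A a
    let sec : FEt.fiberObj η Q → FEt.fiberObj η A := Function.surjInv hsurj
    have hsec : ∀ q, (FEt.fiber η).map p (sec q) = q := Function.surjInv_eq hsurj
    have hinv : ∀ (h : P) (x : FEt.fiberObj η A),
        (FEt.fiber η).map p ((FEt.fiber η).map (h : Aut A).hom x) = (FEt.fiber η).map p x := fun h x =>
      (congr($((FEt.fiber η).map_comp (h : Aut A).hom p) x)).symm.trans
        (congrArg (fun r : A ⟶ Q => (FEt.fiber η).map r x) (hgp h))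
    let e : FEt.fiberObj η Q × P ≃ FEt.fiberObj η A :=
      Equiv.ofBijective (fun x => (FEt.fiber η).map (x.2 : Aut A).hom (sec x.1)) ⟨by
        rintro ⟨q, h⟩ ⟨q', h'⟩ (he : (FEt.fiber η).map (h : Aut A).hom (sec q) =
          (FEt.fiber η).map (h' : Aut A).hom (sec q'))
        have hq : q = q' := by
          have := congrArg ((FEt.fiber η).map p) he
          rwa [hinv, hinv, hsec, hsec] at this
        subst hq
        exact Prod.ext rfl (Subtype.ext (hfree _ he)), fun x => by
        obtain ⟨h, hh⟩ := hexact (sec ((FEt.fiber η).map p x)) x (hsec _)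
        exact ⟨⟨_, h⟩, hh⟩⟩
    obtain ⟨a⟩ : Nonempty (FEt.fiberObj η A) := inferInstanceAs (Nonempty ((fibFin η).obj A))
    have hcard : Nat.card (FEt.fiberObj η A) = Nat.card (Aut A) :=
      (Nat.card_congr (Equiv.ofBijective _ (evaluation_aut_bijective_of_isGalois (fibFin η) A a))).symm
    have := Nat.card_congr e
    rw [Nat.card_prod, hcard, ← P.index_mul_card] at this
    exact Nat.eq_of_mul_eq_mul_right Nat.card_pos this
  refine ⟨A, Q, g, p, P, inferInstance, inferInstance, P.toSubgroup.subtype, P.index, P.isPGroup', hgp,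
    preconnected_left_of_isConnected A, ⟨a₀.1.base default⟩, fun q => ?_,
    (Nat.Prime.coprime_iff_not_dvd Fact.out).2 P.not_dvd_index, fun Ω _ _ η =>
      ⟨(key Ω η).2.2, fun t₁ t₂ h => ?_⟩⟩
  · obtain ⟨a, ha⟩ := (key _ (geomPt Q.left q ≫ Q.hom)).1 ⟨geomPt Q.left q, rfl⟩
    refine ⟨a.1.base default, ?_⟩
    have h1 : a.1 ≫ p.left = geomPt Q.left q := congrArg Subtype.val ha
    exact ((Scheme.Hom.comp_apply _ _ _).symm.trans (congr($(h1).base default))).trans (geomPt_default _ q)
  · obtain ⟨h', hh⟩ := (key Ω η).2.1 t₁ t₂ (Subtype.ext h)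
    exact ⟨h', (congrArg Subtype.val hh).symm⟩

end GrothLib.PFilt18
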