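import Groth.Agent.Lib.PFilt18.Chain
import Groth.Agent.Lib.PFilt18.Cover
import Groth.Agent.Lib.FLCTriv18.Basic
import Groth.Agent.Lib.LocConst.Pull

/-!
# Finite locally constant sheaves killed by `ℓ` become filtered by `ℤ/ℓ` after a cover of degree prime to `ℓ`
-/

set_option autoImplicit false
set_option backward.isDefEq.respectTransparency false
set_option backward.isDefEq.respectTransparency.types false
set_option linter.style.haveILetI false
set_option linter.all false

universe u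

open CategoryTheory CategoryTheory.Limits AlgebraicGeometry Opposite
open GrothLib.EtSite GrothLib.LocConst

noncomputable section

namespace GrothLib.PFilt18

/-- Over a connected etale scheme a chart gives all the sections. -/
theorem bijective_of_chart {T : Scheme.{u}} (A : T.Etale) [PreconnectedSpace A.left] [Nonempty A.left]
    {H : EtCoh.Ab T} {M : Type*} [AddCommGroup M] (a : M →+ EtCoh.sect H A) (ha : IsChart H A a) :
    Function.Bijective a := by
  refine ⟨fun m m' h => ?_, fun s => ?_⟩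
  · obtain ⟨z⟩ := ‹Nonempty A.left›
    obtain ⟨Ω, _, _, ξ, t, -⟩ := ConnFibres.exists_point A z
    exact (ha Ω ξ t).1 (congrArg (germ ξ H t) h)
  · have hopen := fun m => ConnFibres.isOpen_zeroLocus H (s - a m)
    have hcov : ∀ z : A.left, ∃ m, z ∈ ConnFibres.zeroLocus H (s - a m) := fun z => by
      obtain ⟨Ω, _, _, ξ, t, rfl⟩ := ConnFibres.exists_point A z
      obtain ⟨m, hm⟩ := (ha Ω ξ t).2 (germ ξ H t s)
      refine ⟨m, (ConnFibres.mem_iff_germ H _ ξ t).2 ?_⟩
      rw [map_sub, sub_eq_zero]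
      exact hm.symm
    have hdis : ∀ m m' z, z ∈ ConnFibres.zeroLocus H (s - a m) →
        z ∈ ConnFibres.zeroLocus H (s - a m') → m = m' := fun m m' z h h' => by
      obtain ⟨Ω, _, _, ξ, t, rfl⟩ := ConnFibres.exists_point A z
      have h1 := (ConnFibres.mem_iff_germ H _ ξ t).1 h
      have h2 := (ConnFibres.mem_iff_germ H _ ξ t).1 h'
      rw [map_sub, sub_eq_zero] at h1 h2
      exact (ha Ω ξ t).1 (h1.symm.trans h2)
    obtain ⟨z⟩ := ‹Nonempty A.left›
    obtain ⟨m, hm⟩ := hcov z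
    have hclosed : IsClosed (ConnFibres.zeroLocus H (s - a m)) := by
      rw [← isOpen_compl_iff, isOpen_iff_forall_mem_open]
      intro w hw
      obtain ⟨m', hm'⟩ := hcov w
      exact ⟨_, fun y hy hy' => hw (hdis m m' y hy' hy ▸ hm'), hopen m', hm'⟩
    refine ⟨m, (sub_eq_zero.1 (ConnFibres.eq_zero_of_univ H (s - a m) fun w => ?_)).symm⟩
    rw [IsClopen.eq_univ ⟨hclosed, hopen m⟩ ⟨z, hm⟩]
    trivial

/-- The statement. -/
theorem exists_prime_to_ell_filtration (S : Scheme.{u}) [ConnectedSpace S] (ℓ : ℕ) [Fact ℓ.Prime]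
    (F : EtCoh.Ab S) (hF : EtCoh.IsFiniteLocallyConstant F) (hℓ : EtCoh.KilledBy ℓ F) :
    ∃ (Q : FEt.Cat S) (d : ℕ), ℓ.Coprime d ∧
      (∀ (Ω : Type u) [Field Ω] [IsAlgClosed Ω] (η : Spec (CommRingCat.of Ω) ⟶ S),
        Nat.card (FEt.fiberObj η Q) = d) ∧
      ∃ (n : ℕ) (G : ℕ → EtCoh.Ab Q.left) (φ : ∀ i, G i ⟶ G (i + 1)),
        IsZero (G 0) ∧ Nonempty (G n ≅ (EtCoh.pull Q.hom).obj F) ∧
        ∀ i, i < n → Mono (φ i) ∧ Nonempty (cokernel (φ i) ≅ EtCoh.const Q.left (ZMod ℓ)) := by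
  obtain ⟨M, hMg, hMf, hc⟩ := exists_chart_single F hF
  obtain ⟨W, hWfin, hWsurj, hWiso⟩ := FLCTriv18.exists_finite_cover_const hF hc
  haveI := hWfin
  haveI : Etale W.hom := W.prop
  let W' : FEt.Cat S := MorphismProperty.Over.mk ⊤ W.hom ⟨hWfin, W.prop⟩
  haveI : Nonempty W'.left := by
    obtain ⟨s⟩ : Nonempty S := inferInstance
    obtain ⟨w, -⟩ := hWsurj.surj s
    exact ⟨w⟩
  obtain ⟨A, Q, g, p, Γ, _, _, φ, d, hΓ, hφp, hconn, hne, hsurj, hd, hfib⟩ := exists_sylow_cover ℓ W'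
  refine ⟨Q, d, hd, fun Ω _ _ η => (hfib Ω η).1, ?_⟩
  obtain ⟨b, hb⟩ := (restr_iso_const_iff_chart F W (AddCommGrpCat.of (ULift.{u + 1} M))).1
    ((restr_iso_const_iff F W _).2 hWiso)
  haveI : Etale p.left := (FEt21.prop_left p).2
  haveI : Etale Q.hom := Q.prop.2
  let Qet : S.Etale := Scheme.Etale.mk Q.hom
  haveI : EtShriek.JCont Q.hom := jCont_hom Qet
  let AT : Q.left.Etale := Scheme.Etale.mk p.left
  haveI : PreconnectedSpace AT.left := hconn
  haveI : Nonempty AT.left := hne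
  let B : S.Etale := (EtShriek.compEtale Q.hom).obj AT
  let k : B ⟶ W := MorphismProperty.Over.homMk g.left
    ((MorphismProperty.Over.w g).trans (MorphismProperty.Over.w p).symm)
  let H : EtCoh.Ab Q.left := (EtShriek.restrAlong Q.hom).obj F
  let a : ULift.{u + 1} M →+ EtCoh.sect H AT := (F.obj.map k.op).hom.comp b
  have ha : IsChart H AT a := fun Ω _ _ η t => by
    have h1 : Function.Bijective fun m => restrGerm Q.hom η F (germ η H t (a m)) := by
      have e : (fun m => restrGerm Q.hom η F (germ η H t (a m))) =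
          fun m => germ (η ≫ Q.hom) F (liftPt Q.hom η t) (a m) :=
        funext fun m => germ_restrGerm Q.hom η F t (a m)
      rw [e]
      exact hb.map k Ω _ _
    exact (Function.Bijective.of_comp_iff' (bijective_restrGerm Q.hom η F) _).1 h1
  have hbij := bijective_of_chart AT a ha
  have hsplit : Split AT H := fun Ω _ _ ξ t =>
    (Function.Bijective.of_comp_iff (fun s => germ ξ H t s) hbij).1 (ha Ω ξ t)
  haveI : Finite (EtCoh.sect H AT) := Finite.of_surjective a hbij.2
  let ψ : Γ →* Aut AT :=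
    { toFun := fun x =>
        { hom := MorphismProperty.Over.homMk (φ x).hom.left
            (congrArg (fun r => r.left) (hφp x)) trivial
          inv := MorphismProperty.Over.homMk (φ x⁻¹).hom.left
            (congrArg (fun r => r.left) (hφp x⁻¹)) trivial
          hom_inv_id := MorphismProperty.Over.Hom.ext (by
            change ((φ x).hom ≫ (φ x⁻¹).hom).left = (𝟙 A : A ⟶ A).left
            rw [show (φ x).hom ≫ (φ x⁻¹).hom = (φ (x⁻¹ * x)).hom by rw [map_mul]; rfl,
              inv_mul_cancel, map_one]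
            rfl)
          inv_hom_id := MorphismProperty.Over.Hom.ext (by
            change ((φ x⁻¹).hom ≫ (φ x).hom).left = (𝟙 A : A ⟶ A).left
            rw [show (φ x⁻¹).hom ≫ (φ x).hom = (φ (x * x⁻¹)).hom by rw [map_mul]; rfl,
              mul_inv_cancel, map_one]
            rfl) }
      map_one' := Iso.ext (MorphismProperty.Over.Hom.ext (by
        change (φ 1).hom.left = _
        rw [map_one]; rfl))
      map_mul' := fun x y => Iso.ext (MorphismProperty.Over.Hom.ext (by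
        change (φ (x * y)).hom.left = _
        rw [map_mul]; rfl)) }
  have htr : ∀ (Ω : Type u) [Field Ω] [IsAlgClosed Ω] (t₁ t₂ : Spec (CommRingCat.of Ω) ⟶ AT.left),
      t₁ ≫ AT.hom = t₂ ≫ AT.hom → ∃ x : Γ, t₂ = t₁ ≫ (ψ x).hom.left := by
    intro Ω _ _ t₁ t₂ h
    obtain ⟨x, hx⟩ := (hfib Ω (t₁ ≫ A.hom)).2 ⟨t₁, rfl⟩ ⟨t₂, by
      rw [← MorphismProperty.Over.w p, ← Category.assoc, ← Category.assoc]
      exact congrArg (· ≫ Q.hom) h.symm⟩ h
    exact ⟨x, hx⟩
  obtain ⟨n, G, f, ⟨e0⟩, ⟨en⟩, hsteps⟩ := exists_chain AT ψ hsurj htr ℓ hΓ H _ H (𝟙 H) inferInstance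
    hsplit inferInstance (fun c => hℓ _ c) le_rfl
  exact ⟨n, G, f, (isZero_kernel_of_mono (𝟙 H)).of_iso e0,
    ⟨en ≪≫ (ExtZero.restrIsoPull Q.hom).app F⟩, hsteps⟩

end GrothLib.PFilt18
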