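import Groth.Agent.Lib.LocConst.ConstGerm
import Groth.Agent.Lib.EtSite.ConnFibres
import Groth.Agent.Lib.EtTrace21.Basic
import Groth.Agent.Lib.EtShriek.Colim
import Mathlib.GroupTheory.PGroup
import Mathlib.GroupTheory.SpecificGroups.Cyclic

/-!
# Filtrations by constant sheaves of sheaves split by a connected cover with a `p`-group of automorphisms
-/

set_option autoImplicit false
set_option backward.isDefEq.respectTransparency false
set_option backward.isDefEq.respectTransparency.types false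
set_option linter.style.haveILetI false
set_option linter.all false

universe u

open CategoryTheory CategoryTheory.Limits AlgebraicGeometry Opposite
open GrothLib.EtSite GrothLib.EtTrace21 GrothLib.ConnFibres

noncomputable section

namespace GrothLib.PFilt18

variable {T : Scheme.{u}} (A : T.Etale)

/-- Sections over `A` compute every stalk. -/
def Split (H : EtCoh.Ab T) : Prop :=
  ∀ (Ω : Type u) [Field Ω] [IsSepClosed Ω] (ξ : Spec (CommRingCat.of Ω) ⟶ T)
    (t : (Scheme.pointSmallEtale ξ).fiber.obj A), Function.Bijective fun s : EtCoh.sect H A => germ ξ H t s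

theorem eq_of_zeroLocus {H : EtCoh.Ab T} (hH : Split A H) (a b : EtCoh.sect H A) (z : A.left)
    (h : z ∈ zeroLocus H (a - b)) : a = b := by
  obtain ⟨Ω, _, _, ξ, t, rfl⟩ := exists_point A z
  have h' := (mem_iff_germ H _ ξ t).1 h
  rw [map_sub, sub_eq_zero] at h'
  exact (hH Ω ξ t).1 h'

variable [PreconnectedSpace A.left]

/-- The quotient by the subsheaf generated by an invariant section is split. -/
theorem split_cokernel {H C : EtCoh.Ab T} (hH : Split A H) (π : H ⟶ C) [Epi π]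
    (c : EtCoh.sect H A) (hπc : π.hom.app (op A) c = 0)
    (hker : ∀ (Ω : Type u) [Field Ω] [IsSepClosed Ω] (ξ : Spec (CommRingCat.of Ω) ⟶ T)
      (t : (Scheme.pointSmallEtale ξ).fiber.obj A) (x : (EtCoh.stalk ξ).obj H),
      (EtCoh.stalk ξ).map π x = 0 → ∃ m : ℕ, x = germ ξ H t (m • c)) :
    Split A C ∧ Function.Surjective (π.hom.app (op A)) := by
  have hzero : ∀ (h : EtCoh.sect H A) (Ω : Type u) [Field Ω] [IsSepClosed Ω] (ξ : Spec (CommRingCat.of Ω) ⟶ T)
      (t : (Scheme.pointSmallEtale ξ).fiber.obj A),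
      germ ξ C t (π.hom.app (op A) h) = 0 ↔ ∃ m : ℕ, h = m • c := by
    intro h Ω _ _ ξ t
    refine ⟨fun e => ?_, ?_⟩
    · obtain ⟨m, hm⟩ := hker Ω ξ t (germ ξ H t h) ((stalk_map_germ ξ π t h).trans e)
      exact ⟨m, (hH Ω ξ t).1 hm⟩
    · rintro ⟨m, rfl⟩
      rw [map_nsmul, hπc, smul_zero, map_zero]
  have hloc : ∀ (d : EtCoh.sect C A) (Ω : Type u) [Field Ω] [IsSepClosed Ω] (ξ : Spec (CommRingCat.of Ω) ⟶ T)
      (t : (Scheme.pointSmallEtale ξ).fiber.obj A), ∃ h : EtCoh.sect H A,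
      t.left.base (default : Spec (CommRingCat.of Ω)) ∈ zeroLocus C (d - π.hom.app (op A) h) := by
    intro d Ω _ _ ξ t
    obtain ⟨y, hy⟩ := (AddCommGrpCat.epi_iff_surjective ((EtCoh.stalk ξ).map π)).1 inferInstance (germ ξ C t d)
    obtain ⟨h, rfl⟩ := (hH Ω ξ t).2 y
    refine ⟨h, (mem_iff_germ C _ ξ t).2 ?_⟩
    rw [map_sub, sub_eq_zero, ← hy]
    exact (stalk_map_germ ξ π t h)
  have hinj : ∀ (d : EtCoh.sect C A) (Ω : Type u) [Field Ω] [IsSepClosed Ω] (ξ : Spec (CommRingCat.of Ω) ⟶ T)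
      (t : (Scheme.pointSmallEtale ξ).fiber.obj A), germ ξ C t d = 0 → d = 0 := by
    intro d Ω _ _ ξ t hd
    have hclosed : IsClosed (zeroLocus C d) := by
      rw [← isOpen_compl_iff, isOpen_iff_forall_mem_open]
      intro z hz
      obtain ⟨Ω', _, _, ξ', t', ht'⟩ := exists_point A z
      obtain ⟨h, hh⟩ := hloc d Ω' ξ' t'
      rw [ht'] at hh
      refine ⟨zeroLocus C (d - π.hom.app (op A) h), fun w hw hwd => hz ?_, isOpen_zeroLocus _ _, hh⟩
      have h1 := (mem_congr C d (π.hom.app (op A) h) w hw).1 hwd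
      obtain ⟨Ω'', _, _, ξ'', t'', ht''⟩ := exists_point A w
      rw [← ht''] at h1
      obtain ⟨m, hm⟩ := (hzero h Ω'' ξ'' t'').1 ((mem_iff_germ C _ ξ'' t'').1 h1)
      refine (mem_congr C d (π.hom.app (op A) h) z hh).2 ?_
      rw [← ht']
      exact (mem_iff_germ C _ ξ' t').2 ((hzero h Ω' ξ' t').2 ⟨m, hm⟩)
    refine eq_zero_of_univ C d fun z => ?_
    rw [IsClopen.eq_univ ⟨hclosed, isOpen_zeroLocus C d⟩
      ⟨t.left.base (default : Spec (CommRingCat.of Ω)), (mem_iff_germ C d ξ t).2 hd⟩]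
    trivial
  have hsplit : Split A C := by
    intro Ω _ _ ξ t
    refine ⟨(injective_iff_map_eq_zero (germ ξ C t).hom).2 fun d => hinj d Ω ξ t, fun y => ?_⟩
    obtain ⟨x, rfl⟩ := (AddCommGrpCat.epi_iff_surjective ((EtCoh.stalk ξ).map π)).1 inferInstance y
    obtain ⟨h, rfl⟩ := (hH Ω ξ t).2 x
    exact ⟨π.hom.app (op A) h, (stalk_map_germ ξ π t h).symm⟩
  refine ⟨hsplit, fun d => ?_⟩
  rcases isEmpty_or_nonempty A.left with hA | ⟨⟨z⟩⟩
  · refine ⟨0, ?_⟩
    rw [map_zero]
    exact (eq_zero_of_univ C d fun z => isEmptyElim z).symm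
  obtain ⟨Ω, _, _, ξ, t, ht⟩ := exists_point A z
  obtain ⟨h, hh⟩ := hloc d Ω ξ t
  exact ⟨h, (eq_of_zeroLocus A hsplit _ _ _ hh).symm⟩

variable {Γ : Type*} [Group Γ] [Finite Γ] (ψ : Γ →* Aut A)
  (hA : Function.Surjective A.hom.base)
  (htr : ∀ (Ω : Type u) [Field Ω] [IsAlgClosed Ω] (t₁ t₂ : Spec (CommRingCat.of Ω) ⟶ A.left),
    t₁ ≫ A.hom = t₂ ≫ A.hom → ∃ g : Γ, t₂ = t₁ ≫ (ψ g).hom.left)

omit [PreconnectedSpace A.left] [Finite Γ] in
include hA htr in
/-- Invariant sections descend. -/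
theorem exists_descend {C : EtCoh.Ab T} (c : EtCoh.sect C A) (hc : ∀ g, C.obj.map (ψ g).hom.op c = c) :
    ∃ s : EtCoh.sect C (EtCoh.top T), C.obj.map ((EtCore.topIsTerminal T).from A).op s = c := by
  have hcov : ∀ x : (EtCoh.top T).left, ∃ _ : PUnit.{1}, x ∈ Set.range ((EtCore.topIsTerminal T).from A).left.base := by
    intro x
    obtain ⟨a, ha⟩ := hA x
    refine ⟨⟨⟩, a, ?_⟩
    rw [show ((EtCore.topIsTerminal T).from A).left = A.hom from
      (Category.comp_id _).symm.trans (MorphismProperty.Over.w ((EtCore.topIsTerminal T).from A))]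
    exact ha
  obtain ⟨s, hs⟩ := GrothLib.EtShriek.exists_glue C (EtCoh.top T) (fun _ : PUnit.{1} => A)
    (fun _ => (EtCore.topIsTerminal T).from A) hcov (fun _ => c) fun _ _ Z p q _ => by
      refine sub_eq_zero.1 (section_eq_zero_of_germsAC C Z _ fun Ω _ _ ξ t => ?_)
      obtain ⟨g, hg⟩ := htr Ω (t.left ≫ p.left) (t.left ≫ q.left) (by
        rw [Category.assoc, Category.assoc]
        exact congrArg (t.left ≫ ·) ((MorphismProperty.Over.w p).trans (MorphismProperty.Over.w q).symm))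
      rw [map_sub, germ_map, germ_map, sub_eq_zero]
      have e : (Scheme.pointSmallEtale ξ).fiber.map q t =
          (Scheme.pointSmallEtale ξ).fiber.map (ψ g).hom ((Scheme.pointSmallEtale ξ).fiber.map p t) :=
        Over.OverMorphism.ext hg
      rw [e, ← germ_map ξ C (ψ g).hom, hc g]
  exact ⟨s, hs ⟨⟩⟩

variable (ℓ : ℕ) [Fact ℓ.Prime] (hΓ : IsPGroup ℓ Γ)

include hA htr hΓ in
/-- The filtration. -/
theorem exists_chain (H : EtCoh.Ab T) :
    ∀ (n : ℕ) (C : EtCoh.Ab T) (q : H ⟶ C), Epi q → Split A C → Finite (EtCoh.sect C A) →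
      (∀ c : EtCoh.sect C A, ℓ • c = 0) → Nat.card (EtCoh.sect C A) ≤ n →
      ∃ (m : ℕ) (G : ℕ → EtCoh.Ab T) (φ : ∀ i, G i ⟶ G (i + 1)),
        Nonempty (G 0 ≅ kernel q) ∧ Nonempty (G m ≅ H) ∧
        ∀ i, i < m → Mono (φ i) ∧ Nonempty (cokernel (φ i) ≅ EtCoh.const T (ZMod ℓ)) := by
  classical
  intro n
  induction n with
  | zero =>
    intro C q _ _ hfin _ hn
    haveI := hfin
    exact absurd (Nat.le_zero.1 hn) (Nat.card_pos).ne'
  | succ n ih =>
    intro C q hq hC hfin hℓ hn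
    haveI := hq
    haveI := hfin
    rcases subsingleton_or_nontrivial (EtCoh.sect C A) with hs | hnt
    · -- `C = 0`
      have hC0 : IsZero C := by
        rw [IsZero.iff_id_eq_zero]
        refine ObjectProperty.hom_ext _ (NatTrans.ext (funext fun V => AddCommGrpCat.hom_ext (AddMonoidHom.ext fun x => ?_)))
        refine section_eq_zero_of_germsAC C V.unop x fun Ω _ _ ξ t => ?_
        obtain ⟨a, ha⟩ := hA (ξ.base (default : Spec (CommRingCat.of Ω)))
        obtain ⟨tA, -⟩ := exists_fib ξ a ha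
        obtain ⟨y, hy⟩ := (hC Ω ξ tA).2 (germ ξ C t x)
        rw [← hy, Subsingleton.elim y 0]
        exact map_zero _
      have hk : IsIso (kernel.ι q) := by
        haveI : Epi (kernel.ι q) := by
          have : q = 0 := hC0.eq_of_tgt _ _
          subst this
          exact inferInstance
        exact isIso_of_mono_of_epi _
      exact ⟨0, fun _ => H, fun _ => 𝟙 H, ⟨(asIso (kernel.ι q)).symm⟩, ⟨Iso.refl _⟩, fun i hi => absurd hi (Nat.not_lt_zero i)⟩
    -- a fixed section
    obtain ⟨c, hc0, hcfix⟩ : ∃ c : EtCoh.sect C A, c ≠ 0 ∧ ∀ g, C.obj.map (ψ g).hom.op c = c := by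
      letI : MulAction Γ (EtCoh.sect C A) :=
        { smul := fun g x => C.obj.map (ψ g⁻¹).hom.op x
          one_smul := fun x => by
            change C.obj.map (ψ 1⁻¹).hom.op x = x
            rw [inv_one, map_one]
            exact congr($(C.obj.map_id (op A)) x)
          mul_smul := fun g g' x => by
            change C.obj.map (ψ (g * g')⁻¹).hom.op x = C.obj.map (ψ g⁻¹).hom.op (C.obj.map (ψ g'⁻¹).hom.op x)
            rw [← ConcreteCategory.comp_apply, ← Functor.map_comp, ← op_comp, mul_inv_rev, map_mul]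
            rfl }
      have hdvd : ℓ ∣ Nat.card (EtCoh.sect C A) := by
        obtain ⟨y, hy⟩ := exists_ne (0 : EtCoh.sect C A)
        rw [← addOrderOf_eq_prime (hℓ y) hy]
        exact addOrderOf_dvd_natCard y
      obtain ⟨b, hb, hne⟩ := hΓ.exists_fixed_point_of_prime_dvd_card_of_fixed_point (EtCoh.sect C A) hdvd
        (a := 0) (fun g => map_zero (C.obj.map (ψ g⁻¹).hom.op).hom)
      refine ⟨b, hne.symm, fun g => ?_⟩
      have := hb g⁻¹
      change C.obj.map (ψ g⁻¹⁻¹).hom.op b = b at this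
      rwa [inv_inv] at this
    obtain ⟨s, hs⟩ := exists_descend A ψ hA htr c hcfix
    -- the map from the constant sheaf
    have hsℓ : ℓ • s = 0 := by
      refine section_eq_zero_of_germsAC C (EtCoh.top T) _ fun Ω _ _ ξ t => ?_
      obtain ⟨a, ha⟩ := hA (ξ.base (default : Spec (CommRingCat.of Ω)))
      obtain ⟨tA, -⟩ := exists_fib ξ a ha
      have e : (Scheme.pointSmallEtale ξ).fiber.map ((EtCore.topIsTerminal T).from A) tA = t :=
        (GrothLib.LocConst.fiber_map_from_top ξ _ tA).trans (GrothLib.LocConst.fiber_map_from_top ξ (𝟙 _) t |> fun h => by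
          rw [CategoryTheory.Functor.map_id] at h; exact h.symm)
      rw [← e, ← germ_map, map_nsmul, hs, hℓ c, map_zero]
    let M := AddCommGrpCat.of (ULift.{u + 1} (ZMod ℓ))
    let l₀ : ZMod ℓ →+ EtCoh.sect C (EtCoh.top T) := ZMod.lift ℓ ⟨zmultiplesHom _ s, by
      change (ℓ : ℤ) • s = 0
      rw [natCast_zsmul]; exact hsℓ⟩
    let j₀ : M ⟶ (EtCore.gsec T).obj C := AddCommGrpCat.ofHom (l₀.comp AddEquiv.ulift.toAddMonoidHom)
    let θ : EtCoh.const T (ZMod ℓ) ⟶ C := ((EtCore.constAdj T).homEquiv M C).symm j₀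
    have hunit : (EtCore.constAdj T).unit.app M ≫ θ.hom.app (op (EtCoh.top T)) = j₀ := by
      have h := (EtCore.constAdj T).homEquiv_unit M C θ
      rw [Equiv.apply_symm_apply] at h
      exact h.symm
    have hl : ∀ m : ZMod ℓ, l₀ m = m.val • s := fun m => by
      conv_lhs => rw [← ZMod.natCast_zmod_val m]
      rw [← nsmul_one m.val, map_nsmul]
      congr 1
      have := ZMod.lift_coe ℓ ⟨zmultiplesHom _ s, by
        change (ℓ : ℤ) • s = 0
        rw [natCast_zsmul]; exact hsℓ⟩ (1 : ℤ)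
      rw [Int.cast_one] at this
      exact this.trans (one_zsmul s)
    have hstalk : ∀ (Ω : Type u) [Field Ω] [IsSepClosed Ω] (ξ : Spec (CommRingCat.of Ω) ⟶ T)
        (t : (Scheme.pointSmallEtale ξ).fiber.obj A) (p : (EtCoh.stalk ξ).obj (EtCoh.const T (ZMod ℓ))),
        ∃ m : ZMod ℓ, p = germ ξ _ (GrothLib.LocConst.topFib ξ) ((EtCore.constAdj T).unit.app M ⟨m⟩) ∧
          (EtCoh.stalk ξ).map θ p = germ ξ C t (m.val • c) := by
      intro Ω _ _ ξ t p
      obtain ⟨⟨m⟩, rfl⟩ := (GrothLib.LocConst.bijective_germ_const ξ M).2 p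
      refine ⟨m, rfl, ?_⟩
      refine (stalk_map_germ ξ θ (GrothLib.LocConst.topFib ξ) _).trans ?_
      rw [← hs, ← map_nsmul, germ_map, GrothLib.LocConst.fiber_map_from_top]
      refine congrArg (germ ξ C (GrothLib.LocConst.topFib ξ)) ?_
      exact (congr($hunit (⟨m⟩ : M))).trans (hl m)
    have hcℓ : ∀ m : ZMod ℓ, m.val • c = 0 → m = 0 := fun m hm => by
      have h := addOrderOf_dvd_of_nsmul_eq_zero hm
      rw [addOrderOf_eq_prime (hℓ c) hc0] at h
      exact (ZMod.val_eq_zero m).1 (Nat.eq_zero_of_dvd_of_lt h (ZMod.val_lt m))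
    haveI hθ : Mono θ := by
      refine ⟨fun {W} u₁ u₂ e => ObjectProperty.hom_ext _ (NatTrans.ext (funext fun V =>
        AddCommGrpCat.hom_ext (AddMonoidHom.ext fun z => ?_)))⟩
      refine sub_eq_zero.1 (section_eq_zero_of_germsAC _ V.unop _ fun Ω _ _ ξ t => ?_)
      obtain ⟨a, ha⟩ := hA (ξ.base (default : Spec (CommRingCat.of Ω)))
      obtain ⟨tA, -⟩ := exists_fib ξ a ha
      let d : EtCoh.sect (EtCoh.const T (ZMod ℓ)) V.unop := u₁.hom.app V z - u₂.hom.app V z
      have hd : θ.hom.app V d = 0 := by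
        simp only [d, map_sub, sub_eq_zero]
        exact congr($(congrArg (fun r : W ⟶ C => r.hom.app V) e) z)
      obtain ⟨m, hp, hm⟩ := hstalk Ω ξ tA (germ ξ _ t d)
      have h0 : germ ξ C tA (m.val • c) = 0 := by
        rw [← hm]
        exact (stalk_map_germ ξ θ t d).trans ((congrArg (germ ξ C t) hd).trans (map_zero _))
      have h1 : m = 0 := hcℓ m ((hC Ω ξ tA).1 (h0.trans (map_zero _).symm))
      change germ ξ _ t d = 0
      rw [hp, h1]
      exact (congrArg _ (map_zero ((EtCore.constAdj T).unit.app M).hom)).trans (map_zero _)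
    let π := cokernel.π θ
    have hπs : π.hom.app (op (EtCoh.top T)) s = 0 := by
      have h1 : s = θ.hom.app (op (EtCoh.top T)) ((EtCore.constAdj T).unit.app M ⟨1⟩) := by
        refine Eq.trans ?_ (congr($hunit (⟨1⟩ : M))).symm
        refine Eq.trans ?_ (hl 1).symm
        rw [ZMod.val_one, one_smul]
      rw [h1]
      exact congr($(congrArg (fun r : EtCoh.const T (ZMod ℓ) ⟶ cokernel θ => r.hom.app (op (EtCoh.top T)))
        (cokernel.condition θ)) ((EtCore.constAdj T).unit.app M ⟨1⟩))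
    have hπc : π.hom.app (op A) c = 0 := by
      rw [← hs]
      exact (NatTrans.naturality_apply π.hom ((EtCore.topIsTerminal T).from A).op s).trans
        ((congrArg _ hπs).trans (map_zero _))
    obtain ⟨hC', hsurj⟩ := split_cokernel A hC π c hπc fun Ω _ _ ξ t x hx => by
      obtain ⟨p, hp⟩ := GrothLib.LocConst.stalk_exact ξ (ShortComplex.mk θ π (cokernel.condition θ))
        (ShortComplex.exact_of_g_is_cokernel _ (cokernelIsCokernel θ)) x hx
      obtain ⟨m, -, hm⟩ := hstalk Ω ξ t p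
      exact ⟨m.val, hp.symm.trans hm⟩
    haveI : Finite (EtCoh.sect (cokernel θ) A) := Finite.of_surjective _ hsurj
    have hlt : Nat.card (EtCoh.sect (cokernel θ) A) < Nat.card (EtCoh.sect C A) := by
      refine lt_of_le_of_ne (Nat.card_le_card_of_surjective _ hsurj) fun he => hc0 ?_
      exact ((Nat.bijective_iff_surjective_and_card _).2 ⟨hsurj, he.symm⟩).1 (hπc.trans (map_zero _).symm)
    obtain ⟨m, G, φ, ⟨e0⟩, hm, hsteps⟩ := ih (cokernel θ) (q ≫ π) inferInstance hC' inferInstance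
      (fun d => by obtain ⟨x, rfl⟩ := hsurj d; rw [← map_nsmul, hℓ, map_zero]) (by omega)
    -- prepend the kernel of `q`
    let K : kernel q ⟶ kernel (q ≫ π) := kernel.lift _ (kernel.ι q) (by rw [kernel.condition_assoc, zero_comp])
    have hθker : IsLimit (KernelFork.ofι θ (cokernel.condition θ)) :=
      Abelian.monoIsKernelOfCokernel (CokernelCofork.ofπ (cokernel.π θ) (cokernel.condition θ)) (cokernelIsCokernel θ)
    let ρ := hθker.lift (KernelFork.ofι (kernel.ι (q ≫ π) ≫ q)
      (by rw [Category.assoc, kernel.condition]))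
    have hρ : ρ ≫ θ = kernel.ι (q ≫ π) ≫ q := hθker.fac _ WalkingParallelPair.zero
    haveI : Epi ρ := by
      let l := kernel.lift (q ≫ π) (pullback.fst q θ)
        (by rw [pullback.condition_assoc, cokernel.condition, comp_zero])
      have hl' : l ≫ ρ = pullback.snd q θ := by
        rw [← cancel_mono θ, Category.assoc, hρ, kernel.lift_ι_assoc, pullback.condition]
      haveI : Epi (l ≫ ρ) := by rw [hl']; infer_instance
      exact epi_of_epi l ρ
    have hKρ : K ≫ ρ = 0 := by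
      rw [← cancel_mono θ, Category.assoc, hρ, zero_comp, kernel.lift_ι_assoc, kernel.condition]
    have hKer : IsLimit (KernelFork.ofι K hKρ) :=
      KernelFork.IsLimit.ofι' K hKρ fun {W} g hg => ⟨kernel.lift q (g ≫ kernel.ι (q ≫ π)) (by
        rw [Category.assoc, ← hρ, ← Category.assoc, hg, zero_comp]), by
          rw [← cancel_mono (kernel.ι (q ≫ π)), Category.assoc, kernel.lift_ι, kernel.lift_ι]⟩
    haveI : Mono K := mono_of_mono_fac (kernel.lift_ι _ _ _)
    let S := ShortComplex.mk K ρ hKρ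
    have hS : S.Exact := S.exact_of_f_is_kernel hKer
    have hcK : Nonempty (cokernel (K ≫ e0.inv) ≅ EtCoh.const T (ZMod ℓ)) :=
      ⟨cokernelCompIsIso K e0.inv ≪≫
        (cokernelIsCokernel K).coconePointUniqueUpToIso hS.gIsCokernel⟩
    refine ⟨m + 1, fun i => Nat.casesOn (motive := fun _ => EtCoh.Ab T) i (kernel q) G,
      fun i => Nat.casesOn (motive := fun i => (Nat.casesOn (motive := fun _ => EtCoh.Ab T) i (kernel q) G : EtCoh.Ab T) ⟶
        Nat.casesOn (motive := fun _ => EtCoh.Ab T) (i + 1) (kernel q) G) i (K ≫ e0.inv) φ,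
      ⟨Iso.refl _⟩, hm, fun i hi => ?_⟩
    rcases i with _ | i
    · exact ⟨mono_comp K e0.inv, hcK⟩
    · exact hsteps i (by omega)

end GrothLib.PFilt18
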